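import Mathlib

/-!
# S3806 (maximal class, sectional rank), library MXC (helper18): definitions

`Kc S i` is the two-step centralizer `C_S(Γ_i / Γ_{i+2})` of the lower central series
(`Γ_j = (⊤ : Subgroup S).lowerCentralSeries j`, zero-indexed: `Γ_0 = S`, `Γ_1 = [S,S]`).
-/

set_option autoImplicit false

namespace Cfsg.Agent.MXC

open scoped commutatorElement

variable (S : Type*) [Group S]

/-- the two-step centralizer `{t | ∀ u ∈ Γ_i, ⁅u, t⁆ ∈ Γ_{i+2}}` -/
def Kc (i : ℕ) : Subgroup S where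
  carrier := {t | ∀ u ∈ (⊤ : Subgroup S).lowerCentralSeries i,
    ⁅u, t⁆ ∈ (⊤ : Subgroup S).lowerCentralSeries (i + 2)}
  one_mem' := by
    intro u _
    rw [commutatorElement_def]
    simp
  mul_mem' := by
    intro a b ha hb u hu
    have hN : ((⊤ : Subgroup S).lowerCentralSeries (i + 2)).Normal := inferInstance
    have h1 : ⁅u, a * b⁆ = ⁅u, a⁆ * (a * ⁅u, b⁆ * a⁻¹) := by
      simp only [commutatorElement_def]; group
    rw [h1]
    exact Subgroup.mul_mem _ (ha u hu) (hN.conj_mem _ (hb u hu) a)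
  inv_mem' := by
    intro a ha u hu
    have hN : ((⊤ : Subgroup S).lowerCentralSeries (i + 2)).Normal := inferInstance
    have h1 : ⁅u, a⁻¹⁆ = a⁻¹ * (⁅u, a⁆)⁻¹ * a⁻¹⁻¹ := by
      simp only [commutatorElement_def]; group
    rw [h1]
    exact hN.conj_mem _ (Subgroup.inv_mem _ (ha u hu)) a⁻¹

variable {S}

theorem mem_Kc {i : ℕ} {t : S} : t ∈ Kc S i ↔ ∀ u ∈ (⊤ : Subgroup S).lowerCentralSeries i,
    ⁅u, t⁆ ∈ (⊤ : Subgroup S).lowerCentralSeries (i + 2) := Iff.rfl

end Cfsg.Agent.MXC
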