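import Mathlib
import Cfsg.Prelude
import Cfsg.Agent.Lib.MXC.Defs
import Cfsg.Agent.S0662

/-!
# S3806 / MXC piece BASIC: orders of the lower central terms of a `p`-group of maximal class.
All from `Cfsg.Agent.S0662.card_lcs`, `classify_le`, `sup_zpowers_ne_top` (file Cfsg/Agent/S0662.lean).
-/

set_option autoImplicit false

namespace Cfsg.Agent.MXC

open scoped commutatorElement

variable {S : Type*} [Group S] [Finite S] {p : ℕ} [hp : Fact p.Prime] (n : ℕ)
  (hS : Nat.card S = p ^ n) (hcl : Group.nilpotencyClass S = n - 1) (hn : 3 ≤ n)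

include hS hcl hn in
theorem card_lcsT (j : ℕ) (hj1 : 1 ≤ j) (hj : j ≤ n - 1) :
    Nat.card ((⊤ : Subgroup S).lowerCentralSeries j) = p ^ (n - 1 - j) := by
  obtain ⟨i, rfl⟩ : ∃ i, j = i + 1 := ⟨j - 1, by omega⟩
  have h := Cfsg.Agent.S0662.card_lcs n hS hcl hn i (by omega)
  rw [h]
  congr 1
  omega

include hS hcl hn in
theorem eq_lcsT_of_card (N : Subgroup S) [N.Normal] (hN : N ≤ (⊤ : Subgroup S).lowerCentralSeries 1)
    (m : ℕ) (hm : Nat.card N = p ^ m) : N = (⊤ : Subgroup S).lowerCentralSeries (n - 1 - m) := by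
  have hp1 : 1 < p := hp.out.one_lt
  obtain ⟨i, hi, hNi⟩ := Cfsg.Agent.S0662.classify_le n hS hcl hn N hN
  have h := Cfsg.Agent.S0662.card_lcs n hS hcl hn i hi
  rw [← hNi, hm] at h
  have h2 := Nat.pow_right_injective hp1 h
  rw [hNi]
  congr 1
  omega

include hS hcl hn in
theorem eq_of_between (j : ℕ) (hj1 : 1 ≤ j) (hj : j ≤ n - 2) (C : Subgroup S)
    (h1 : (⊤ : Subgroup S).lowerCentralSeries (j + 1) ≤ C)
    (h2 : C ≤ (⊤ : Subgroup S).lowerCentralSeries j)
    (h3 : C ≠ (⊤ : Subgroup S).lowerCentralSeries (j + 1)) :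
    C = (⊤ : Subgroup S).lowerCentralSeries j := by
  have hp1 : 1 < p := hp.out.one_lt
  have hcj := card_lcsT n hS hcl hn j hj1 (by omega)
  have hcj1 := card_lcsT n hS hcl hn (j + 1) (by omega) (by omega)
  -- `|C|` is a power of `p` between `p^(n-2-j)` and `p^(n-1-j)`
  have hdvd : Nat.card C ∣ Nat.card ((⊤ : Subgroup S).lowerCentralSeries j) :=
    Subgroup.card_dvd_of_le h2
  rw [hcj] at hdvd
  obtain ⟨m, hm, hCm⟩ := (Nat.dvd_prime_pow hp.out).1 hdvd
  have hle1 : Nat.card ((⊤ : Subgroup S).lowerCentralSeries (j + 1)) ≤ Nat.card C :=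
    Subgroup.card_le_of_le h1
  rw [hcj1, hCm] at hle1
  have hm1 : n - 1 - (j + 1) ≤ m := (Nat.pow_le_pow_iff_right hp1).1 hle1
  rcases Nat.eq_or_lt_of_le hm1 with heq | hlt
  · exfalso
    apply h3
    symm
    apply Subgroup.eq_of_le_of_card_ge h1
    rw [hcj1, hCm, heq]
  · have hmeq : m = n - 1 - j := by omega
    apply Subgroup.eq_of_le_of_card_ge h2
    rw [hcj, hCm, hmeq]

include hS hcl hn in
theorem pow_mem_lcsT_one (t : S) : t ^ p ∈ (⊤ : Subgroup S).lowerCentralSeries 1 := by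
  have hp1 : 1 < p := hp.out.one_lt
  set D := (⊤ : Subgroup S).lowerCentralSeries 1 with hD
  have hDn : D.Normal := inferInstance
  have hcD : Nat.card D = p ^ (n - 2) := Cfsg.Agent.S0662.card_lcs_one n hS hcl hn
  have hidx : D.index = p ^ 2 := by
    have h := Subgroup.card_mul_index D
    rw [hcD, hS] at h
    have h2 : p ^ n = p ^ (n - 2) * p ^ 2 := by rw [← pow_add]; congr 1; omega
    rw [h2] at h
    exact Nat.eq_of_mul_eq_mul_left (pow_pos hp.out.pos _) h
  have hcq : Nat.card (S ⧸ D) = p ^ 2 := by rw [← Subgroup.index_eq_card]; exact hidx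
  -- the order of the image of `t` divides `p^2`
  have hord : orderOf (QuotientGroup.mk' D t) ∣ p ^ 2 := by
    rw [← hcq]; exact orderOf_dvd_natCard _
  obtain ⟨m, hm, hom⟩ := (Nat.dvd_prime_pow hp.out).1 hord
  rcases Nat.lt_or_ge m 2 with hlt | hge
  · -- order divides `p`
    have hdvd : orderOf (QuotientGroup.mk' D t) ∣ p := by
      rw [hom]
      interval_cases m
      · simp
      · simp
    have h1 : (QuotientGroup.mk' D t) ^ p = 1 := orderOf_dvd_iff_pow_eq_one.1 hdvd
    rw [← map_pow] at h1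
    exact (QuotientGroup.eq_one_iff _).1 h1
  · -- the image of `t` generates the quotient: contradiction
    exfalso
    have hm2 : m = 2 := by omega
    subst hm2
    apply Cfsg.Agent.S0662.sup_zpowers_ne_top n hS hcl hn t
    rw [eq_top_iff]
    intro x _
    have hgen : ∀ y : S ⧸ D, y ∈ Subgroup.zpowers (QuotientGroup.mk' D t) := by
      have hz : Nat.card (Subgroup.zpowers (QuotientGroup.mk' D t)) = Nat.card (S ⧸ D) := by
        rw [Nat.card_zpowers, hom, hcq]
      have htop : Subgroup.zpowers (QuotientGroup.mk' D t) = ⊤ :=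
        Subgroup.eq_top_of_card_eq _ hz
      intro y; rw [htop]; exact Subgroup.mem_top y
    obtain ⟨z, hz⟩ := hgen (QuotientGroup.mk' D x)
    have hz' : QuotientGroup.mk' D (t ^ z) = QuotientGroup.mk' D x := by
      rw [map_zpow]; exact hz
    have hmem : (t ^ z)⁻¹ * x ∈ D := by
      have := QuotientGroup.eq.1 hz'
      exact this
    have hx : x = t ^ z * ((t ^ z)⁻¹ * x) := by group
    rw [hx]
    exact Subgroup.mul_mem _ (Subgroup.mem_sup_right (Subgroup.zpow_mem_zpowers t z))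
      (Subgroup.mem_sup_left hmem)

end Cfsg.Agent.MXC
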