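import Mathlib
import Cfsg.Prelude
import Cfsg.Agent.Lib.MXC.Defs
import Cfsg.Agent.Lib.MXC.BASIC
import Cfsg.Agent.Lib.Helper13.MANNITER

/-!
# S3806 / MXC piece AB: in a group of maximal class of order `p^(2k+1)` the term `Γ_{k-1}` (order `p^(k+1)`) is abelian.
-/

set_option autoImplicit false

namespace Cfsg.Agent.MXC

open scoped commutatorElement

variable {S : Type*} [Group S] [Finite S] {p : ℕ} [hp : Fact p.Prime] (n : ℕ)
  (hS : Nat.card S = p ^ n) (hcl : Group.nilpotencyClass S = n - 1) (hn : 3 ≤ n)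

include hS hcl in
/-- `Γ_k` is central in `Γ_{k-1}` when `n = 2k+1` -/
theorem ab_central (k : ℕ) (hk2 : 2 ≤ k) (hnk : n = 2 * k + 1) (u v : S)
    (hu : u ∈ (⊤ : Subgroup S).lowerCentralSeries (k - 1))
    (hv : v ∈ (⊤ : Subgroup S).lowerCentralSeries k) : u * v = v * u := by
  have hbot : (⊤ : Subgroup S).lowerCentralSeries (2 * k) = ⊥ := by
    have := Cfsg.Agent.S0662.lcs_eq_bot n hS hcl
    have e : n - 1 = 2 * k := by omega
    rwa [e] at this
  have h1 := Cfsg.Agent.Helper10.Mann.lcs_comm_lcs_le (G := S) (k - 1) k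
  have e : k - 1 + k + 1 = 2 * k := by omega
  rw [e, hbot] at h1
  have h2 : ⁅u, v⁆ ∈ (⊥ : Subgroup S) := h1 (Subgroup.commutator_mem_commutator hu hv)
  rw [Subgroup.mem_bot, commutatorElement_eq_one_iff_mul_comm] at h2
  exact h2

include hS hcl hn in
theorem lcsT_comm (k : ℕ) (hk2 : 2 ≤ k) (hnk : n = 2 * k + 1) (a b : S)
    (ha : a ∈ (⊤ : Subgroup S).lowerCentralSeries (k - 1))
    (hb : b ∈ (⊤ : Subgroup S).lowerCentralSeries (k - 1)) : a * b = b * a := by
  by_cases hak : a ∈ (⊤ : Subgroup S).lowerCentralSeries k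
  · exact (ab_central n hS hcl k hk2 hnk b a hb hak).symm
  · set C := (⊤ : Subgroup S).lowerCentralSeries k ⊔ Subgroup.zpowers a with hC
    have e1 : k - 1 + 1 = k := by omega
    have h1 : (⊤ : Subgroup S).lowerCentralSeries (k - 1 + 1) ≤ C := by rw [e1]; exact le_sup_left
    have h2 : C ≤ (⊤ : Subgroup S).lowerCentralSeries (k - 1) := by
      apply sup_le
      · exact Subgroup.lowerCentralSeries_antitone _ (by omega)
      · rw [Subgroup.zpowers_le]; exact ha
    have h3 : C ≠ (⊤ : Subgroup S).lowerCentralSeries (k - 1 + 1) := by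
      rw [e1]
      intro h
      apply hak
      rw [← h]
      exact Subgroup.mem_sup_right (Subgroup.mem_zpowers a)
    have hEq := eq_of_between n hS hcl hn (k - 1) (by omega) (by omega) C h1 h2 h3
    have hcent : C ≤ Subgroup.centralizer ({a} : Set S) := by
      apply sup_le
      · intro v hv
        rw [Subgroup.mem_centralizer_singleton_iff]
        exact (ab_central n hS hcl k hk2 hnk a v ha hv).symm
      · rw [Subgroup.zpowers_le, Subgroup.mem_centralizer_singleton_iff]
    have hbC : b ∈ C := by rw [hEq]; exact hb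
    have := hcent hbC
    rw [Subgroup.mem_centralizer_singleton_iff] at this
    exact this.symm

end Cfsg.Agent.MXC
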