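import Mathlib
import Cfsg.Prelude
import Cfsg.Agent.Lib.MXC.Defs

/-!
# S3806 / MXC piece AVOID: a finite `p`-group is not the union of at most `p` proper subgroups.
Proof: a proper subgroup has at most `|S| / p` elements and all contain `1`, so the union has at most
`p (|S|/p - 1) + 1 < |S|` elements.  (helper18's stub, proved by helper23)
-/

set_option autoImplicit false

namespace Cfsg.Agent.MXC

open scoped commutatorElement

/-- a proper subgroup of a finite `p`-group has at most `|S| / p` elements -/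
theorem avoid_card_le {S : Type*} [Group S] [Finite S] {p : ℕ} [Fact p.Prime] (hS : IsPGroup p S)
    (K : Subgroup S) (hK : K ≠ ⊤) : p * Nat.card K ≤ Nat.card S := by
  have hp : p.Prime := Fact.out
  have hidx : K.index ≠ 1 := fun h => hK (Subgroup.index_eq_one.1 h)
  obtain ⟨n, hn⟩ := hS.index K
  have hn0 : n ≠ 0 := by
    rintro rfl
    exact hidx (by rw [hn, pow_zero])
  have hdvd : p ∣ K.index := by
    rw [hn]
    exact dvd_pow_self p hn0
  have hle : p ≤ K.index := Nat.le_of_dvd (Nat.pos_of_ne_zero Subgroup.index_ne_zero_of_finite) hdvd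
  rw [← Subgroup.card_mul_index K, mul_comm]
  exact Nat.mul_le_mul_left _ hle

theorem exists_avoid {S : Type*} [Group S] [Finite S] {p : ℕ} [Fact p.Prime] (hS : IsPGroup p S)
    (𝒦 : Finset (Subgroup S)) (hcard : 𝒦.card ≤ p) (hprop : ∀ K ∈ 𝒦, K ≠ ⊤) :
    ∃ t : S, ∀ K ∈ 𝒦, t ∉ K := by
  classical
  have hp : p.Prime := Fact.out
  haveI : Fintype S := Fintype.ofFinite S
  by_contra hne
  have hcov : ∀ t : S, ∃ K ∈ 𝒦, t ∈ K := by
    intro t
    by_contra h
    apply hne
    refine ⟨t, fun K hK htK => h ⟨K, hK, htK⟩⟩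
  -- the non-identity elements are covered by the sets `K \ {1}`
  set N := Nat.card S with hN
  have hNpos : 0 < N := Nat.card_pos
  have hsub : (Finset.univ.erase (1 : S)) ⊆
      𝒦.biUnion (fun K => (Finset.univ.filter (fun t => t ∈ K)).erase (1 : S)) := by
    intro t ht
    obtain ⟨K, hK, htK⟩ := hcov t
    rw [Finset.mem_biUnion]
    refine ⟨K, hK, ?_⟩
    rw [Finset.mem_erase] at ht ⊢
    exact ⟨ht.1, by simp [htK]⟩
  have h1 : (Finset.univ.erase (1 : S)).card = N - 1 := by
    rw [Finset.card_erase_of_mem (Finset.mem_univ _), Finset.card_univ, hN, Nat.card_eq_fintype_card]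
  have hK1 : ∀ K ∈ 𝒦, p * (((Finset.univ.filter (fun t => t ∈ K)).erase (1 : S)).card + 1) ≤ N := by
    intro K hK
    have hmem : (1 : S) ∈ Finset.univ.filter (fun t => t ∈ K) := by simp
    have hc : (Finset.univ.filter (fun t => t ∈ K)).card = Nat.card K := by
      rw [Nat.card_eq_fintype_card, Fintype.card_subtype]
    have hpos : 0 < (Finset.univ.filter (fun t => t ∈ K)).card := Finset.card_pos.2 ⟨1, hmem⟩
    rw [Finset.card_erase_of_mem hmem, Nat.sub_add_cancel hpos, hc]
    exact avoid_card_le hS K (hprop K hK)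
  have h2 := Finset.card_le_card hsub
  have h3 := Finset.card_biUnion_le (s := 𝒦)
    (t := fun K => (Finset.univ.filter (fun t => t ∈ K)).erase (1 : S))
  rw [h1] at h2
  -- each term is at most `N / p - 1`
  have h4 : p * (∑ K ∈ 𝒦, ((Finset.univ.filter (fun t => t ∈ K)).erase (1 : S)).card) + p * 𝒦.card
      ≤ 𝒦.card * N := by
    have : ∑ K ∈ 𝒦, p * (((Finset.univ.filter (fun t => t ∈ K)).erase (1 : S)).card + 1) ≤
        ∑ _K ∈ 𝒦, N := Finset.sum_le_sum hK1
    rw [Finset.sum_const, smul_eq_mul, ← Finset.mul_sum, Finset.sum_add_distrib, Finset.sum_const,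
      smul_eq_mul, mul_one, mul_add] at this
    exact this
  have h5 : p * (N - 1) ≤ p * (∑ K ∈ 𝒦, ((Finset.univ.filter (fun t => t ∈ K)).erase (1 : S)).card) :=
    Nat.mul_le_mul_left _ (h2.trans h3)
  -- `𝒦` is not empty
  have hk0 : 0 < 𝒦.card := by
    obtain ⟨K, hK, _⟩ := hcov 1
    exact Finset.card_pos.2 ⟨K, hK⟩
  have h6 : 𝒦.card * N ≤ p * N := Nat.mul_le_mul_right _ hcard
  -- `p (N - 1) + p k ≤ k N ≤ p N`, so `k ≤ 1`, `k = 1`, `p (N - 1) + p ≤ N`, so `p N ≤ N`
  have h7 : p * (N - 1) + p * 𝒦.card ≤ 𝒦.card * N := le_trans (Nat.add_le_add_right h5 _) h4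
  have hp2 : 2 ≤ p := hp.two_le
  have h8 : p * (N - 1) + p = p * N := by
    have : N - 1 + 1 = N := Nat.sub_add_cancel hNpos
    calc p * (N - 1) + p = p * (N - 1 + 1) := by ring
      _ = p * N := by rw [this]
  -- from `h7`: `p N + p (k - 1) ≤ k N`
  rcases Nat.lt_or_ge 𝒦.card 2 with hk | hk
  · have hk1 : 𝒦.card = 1 := by omega
    rw [hk1, mul_one, h8, one_mul] at h7
    have : 2 * N ≤ p * N := Nat.mul_le_mul_right _ hp2
    omega
  · -- `k ≥ 2`: `p N - p + p k ≤ k N ≤ p N` gives `p k ≤ p`, impossible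
    have : p * (N - 1) + p * 𝒦.card ≤ p * N := le_trans h7 h6
    rw [← h8] at this
    have h9 : p * 𝒦.card ≤ p := by omega
    have h10 : p * 2 ≤ p * 𝒦.card := Nat.mul_le_mul_left _ hk
    omega

end Cfsg.Agent.MXC
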