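import Mathlib
import Cfsg.Prelude
import Cfsg.Agent.Lib.MXC.Defs

/-!
# S3806 / MXC piece KC: two easy facts on the two-step centralizers `Kc S i` (Defs.lean).
* `Kc_ne_top`: if `Kc S i = ⊤` then `Γ_{i+1} = ⁅Γ_i, ⊤⁆ ≤ Γ_{i+2}`, and `Γ_{i+2} ≤ Γ_{i+1}` always.
* `conj_of_not_mem_Kc`: pick `g ∈ Γ_i` with `⁅g, t⁆ ∉ Γ_{i+2}`; `y := t⁻¹ * g * t * g⁻¹ = t⁻¹ * ⁅g, t⁆ * t`
  lies in `Γ_{i+1}` (it is `⁅t⁻¹, g⁆`, and `Γ_{i+1} = ⁅Γ_i, ⊤⁆` is normal), not in `Γ_{i+2}` (normal), and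
  `g * t * g⁻¹ = t * y`.
(helper18's stub, proved by helper23)
-/

set_option autoImplicit false

namespace Cfsg.Agent.MXC

open scoped commutatorElement

theorem Kc_ne_top {S : Type*} [Group S] (i : ℕ)
    (h : (⊤ : Subgroup S).lowerCentralSeries (i + 1) ≠ (⊤ : Subgroup S).lowerCentralSeries (i + 2)) :
    Kc S i ≠ ⊤ := by
  intro htop
  apply h
  apply le_antisymm
  · rw [Subgroup.lowerCentralSeries_succ, Subgroup.commutator_le]
    intro u hu t _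
    have ht : t ∈ Kc S i := by rw [htop]; exact Subgroup.mem_top t
    exact ht u hu
  · exact (Subgroup.lowerCentralSeries_antitone (⊤ : Subgroup S)) (Nat.le_succ (i + 1))

theorem conj_of_not_mem_Kc {S : Type*} [Group S] (i : ℕ) (t : S) (ht : t ∉ Kc S i) :
    ∃ g ∈ (⊤ : Subgroup S).lowerCentralSeries i, ∃ y ∈ (⊤ : Subgroup S).lowerCentralSeries (i + 1),
      y ∉ (⊤ : Subgroup S).lowerCentralSeries (i + 2) ∧ g * t * g⁻¹ = t * y := by
  rw [mem_Kc] at ht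
  have ht' : ∃ g ∈ (⊤ : Subgroup S).lowerCentralSeries i,
      ⁅g, t⁆ ∉ (⊤ : Subgroup S).lowerCentralSeries (i + 2) := by
    by_contra hne
    apply ht
    intro u hu
    by_contra h1
    exact hne ⟨u, hu, h1⟩
  obtain ⟨g, hg, hgt⟩ := ht'
  have hN1 : ((⊤ : Subgroup S).lowerCentralSeries (i + 1)).Normal := inferInstance
  have hN2 : ((⊤ : Subgroup S).lowerCentralSeries (i + 2)).Normal := inferInstance
  have hc : ⁅g, t⁆ ∈ (⊤ : Subgroup S).lowerCentralSeries (i + 1) := by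
    rw [Subgroup.lowerCentralSeries_succ]
    exact Subgroup.commutator_mem_commutator hg (Subgroup.mem_top t)
  refine ⟨g, hg, t⁻¹ * ⁅g, t⁆ * t, ?_, ?_, ?_⟩
  · have := hN1.conj_mem _ hc t⁻¹
    simpa using this
  · intro hy
    apply hgt
    have := hN2.conj_mem _ hy t
    have e : t * (t⁻¹ * ⁅g, t⁆ * t) * t⁻¹ = ⁅g, t⁆ := by group
    rwa [e] at this
  · rw [commutatorElement_def]
    group

end Cfsg.Agent.MXC
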