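import Mathlib
import Cfsg.Prelude
import Cfsg.Agent.Lib.MXC.Defs
import Cfsg.Agent.Lib.MXC.BASIC
import Cfsg.Agent.Lib.MXC.AB

/-!
# S3806 / MXC piece KER: the `p`-power map on the abelian group `A = Γ_{k-1}` when it is not trivial.
-/

set_option autoImplicit false

namespace Cfsg.Agent.MXC

open scoped commutatorElement

variable {S : Type*} [Group S] [Finite S] {p : ℕ} [hp : Fact p.Prime] (n : ℕ)
  (hS : Nat.card S = p ^ n) (hcl : Group.nilpotencyClass S = n - 1) (hn : 3 ≤ n)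

/-- the elements of order dividing `p` of a subgroup `A` all of whose elements commute -/
def kerSub {S : Type*} [Group S] (A : Subgroup S) (p : ℕ)
    (hA : ∀ a ∈ A, ∀ b ∈ A, a * b = b * a) : Subgroup S where
  carrier := {y | y ∈ A ∧ y ^ p = 1}
  one_mem' := ⟨A.one_mem, one_pow p⟩
  mul_mem' := by
    rintro a b ⟨ha, hap⟩ ⟨hb, hbp⟩
    refine ⟨A.mul_mem ha hb, ?_⟩
    have hc : Commute a b := hA a ha b hb
    rw [hc.mul_pow, hap, hbp, one_mul]
  inv_mem' := by
    rintro a ⟨ha, hap⟩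
    exact ⟨A.inv_mem ha, by rw [inv_pow, hap, inv_one]⟩

/-- the `p`-th powers of a subgroup `B` all of whose elements commute -/
def powSub {S : Type*} [Group S] (B : Subgroup S) (p : ℕ)
    (hB : ∀ a ∈ B, ∀ b ∈ B, a * b = b * a) : Subgroup S where
  carrier := {x | ∃ c ∈ B, c ^ p = x}
  one_mem' := ⟨1, B.one_mem, one_pow p⟩
  mul_mem' := by
    rintro _ _ ⟨a, ha, rfl⟩ ⟨b, hb, rfl⟩
    refine ⟨a * b, B.mul_mem ha hb, ?_⟩
    have hc : Commute a b := hB a ha b hb
    rw [hc.mul_pow]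
  inv_mem' := by
    rintro _ ⟨a, ha, rfl⟩
    exact ⟨a⁻¹, B.inv_mem ha, inv_pow a p⟩

theorem kerSub_normal {S : Type*} [Group S] (A : Subgroup S) [hAn : A.Normal] (p : ℕ)
    (hA : ∀ a ∈ A, ∀ b ∈ A, a * b = b * a) : (kerSub A p hA).Normal := by
  constructor
  rintro y ⟨hy, hyp⟩ g
  refine ⟨hAn.conj_mem y hy g, ?_⟩
  rw [conj_pow, hyp]; simp

theorem powSub_normal {S : Type*} [Group S] (B : Subgroup S) [hBn : B.Normal] (p : ℕ)
    (hB : ∀ a ∈ B, ∀ b ∈ B, a * b = b * a) : (powSub B p hB).Normal := by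
  constructor
  rintro _ ⟨c, hc, rfl⟩ g
  exact ⟨g * c * g⁻¹, hBn.conj_mem c hc g, conj_pow⟩

/-- `|B| = |B^p| * |{c ∈ B | c^p = 1}|` -/
theorem card_powSub {S : Type*} [Group S] [Finite S] (B : Subgroup S) (p : ℕ)
    (hB : ∀ a ∈ B, ∀ b ∈ B, a * b = b * a) :
    Nat.card B = Nat.card (powSub B p hB) * Nat.card (kerSub B p hB) := by
  let φ : ↥B →* ↥B :=
    { toFun := fun c => c ^ p
      map_one' := one_pow p
      map_mul' := by
        intro x y
        have hc : Commute x y := Subtype.ext (hB x x.2 y y.2)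
        exact hc.mul_pow p }
  have h1 := Subgroup.card_eq_card_quotient_mul_card_subgroup φ.ker
  have h2 : Nat.card (↥B ⧸ φ.ker) = Nat.card φ.range :=
    Nat.card_congr (QuotientGroup.quotientKerEquivRange φ).toEquiv
  have h3 : Nat.card φ.range = Nat.card (powSub B p hB) := by
    apply Nat.card_congr
    refine ⟨fun x => ⟨(x : ↥B), ?_⟩, fun x => ⟨⟨(x : S), ?_⟩, ?_⟩, ?_, ?_⟩
    · obtain ⟨c, hc⟩ := x.2
      exact ⟨(c : S), c.2, by rw [← hc]; rfl⟩
    · obtain ⟨c, hc, hcx⟩ := x.2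
      rw [← hcx]; exact B.pow_mem hc p
    · obtain ⟨c, hc, hcx⟩ := x.2
      exact ⟨⟨c, hc⟩, Subtype.ext hcx⟩
    · intro x; rfl
    · intro x; rfl
  have h4 : Nat.card φ.ker = Nat.card (kerSub B p hB) := by
    apply Nat.card_congr
    refine ⟨fun x => ⟨(x : ↥B), ?_⟩, fun x => ⟨⟨(x : S), x.2.1⟩, ?_⟩, ?_, ?_⟩
    · have := x.2
      rw [MonoidHom.mem_ker] at this
      exact ⟨(x : ↥B).2, congrArg Subtype.val this⟩
    · rw [MonoidHom.mem_ker]
      exact Subtype.ext x.2.2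
    · intro x; rfl
    · intro x; rfl
  rw [h1, h2, h3, h4]

include hS hcl hn in
theorem ker_structure (k : ℕ) (hk2 : 2 ≤ k) (hnk : n = 2 * k + 1) (y0 : S)
    (hy0 : y0 ∈ (⊤ : Subgroup S).lowerCentralSeries (k - 1)) (hy0p : y0 ^ p ≠ 1) :
    ∃ e : ℕ, 1 ≤ e ∧ e ≤ k ∧
      (∀ c ∈ (⊤ : Subgroup S).lowerCentralSeries k,
        c ^ p ∈ (⊤ : Subgroup S).lowerCentralSeries (k + e)) ∧
      (∀ y ∈ (⊤ : Subgroup S).lowerCentralSeries (k - 1),
        y ∉ (⊤ : Subgroup S).lowerCentralSeries k →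
        y ^ p ∉ (⊤ : Subgroup S).lowerCentralSeries (k + e)) := by
  have hpp : p.Prime := hp.out
  have hp1 : 1 < p := hpp.one_lt
  set A := (⊤ : Subgroup S).lowerCentralSeries (k - 1) with hAdef
  set B := (⊤ : Subgroup S).lowerCentralSeries k with hBdef
  have hBA : B ≤ A := Subgroup.lowerCentralSeries_antitone _ (by omega)
  have hA1 : A ≤ (⊤ : Subgroup S).lowerCentralSeries 1 :=
    Subgroup.lowerCentralSeries_antitone _ (by omega)
  have hAc : ∀ a ∈ A, ∀ b ∈ A, a * b = b * a :=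
    fun a ha b hb => lcsT_comm n hS hcl hn k hk2 hnk a b ha hb
  have hBc : ∀ a ∈ B, ∀ b ∈ B, a * b = b * a := fun a ha b hb => hAc a (hBA ha) b (hBA hb)
  have hAn : A.Normal := inferInstance
  have hBn : B.Normal := inferInstance
  have hcA : Nat.card A = p ^ (k + 1) := by
    rw [card_lcsT n hS hcl hn (k - 1) (by omega) (by omega)]; congr 1; omega
  have hcB : Nat.card B = p ^ k := by
    rw [card_lcsT n hS hcl hn k (by omega) (by omega)]; congr 1; omega
  -- the kernel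
  set K := kerSub A p hAc with hKdef
  have hKn : K.Normal := kerSub_normal A p hAc
  have hKA : K ≤ A := fun y hy => hy.1
  have hK1 : K ≤ (⊤ : Subgroup S).lowerCentralSeries 1 := hKA.trans hA1
  obtain ⟨m, hm, hKm⟩ := (Nat.dvd_prime_pow hpp).1
    (by rw [← hcA]; exact Subgroup.card_dvd_of_le hKA : Nat.card K ∣ p ^ (k + 1))
  have hKeq := eq_lcsT_of_card n hS hcl hn K hK1 m hKm
  -- `m ≤ k`
  have hmk : m ≤ k := by
    by_contra hcon
    have hm' : m = k + 1 := by omega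
    have : K = A := Subgroup.eq_of_le_of_card_ge hKA (by rw [hcA, hKm, hm'])
    have hy0K : y0 ∈ K := by rw [this]; exact hy0
    exact hy0p hy0K.2
  -- `1 ≤ m`
  have hm1 : 1 ≤ m := by
    by_contra hcon
    have hm0 : m = 0 := by omega
    have hlast : Nat.card ((⊤ : Subgroup S).lowerCentralSeries (2 * k - 1)) = p := by
      rw [card_lcsT n hS hcl hn (2 * k - 1) (by omega) (by omega)]
      have : n - 1 - (2 * k - 1) = 1 := by omega
      rw [this, pow_one]
    have hle : (⊤ : Subgroup S).lowerCentralSeries (2 * k - 1) ≤ K := by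
      intro y hy
      refine ⟨Subgroup.lowerCentralSeries_antitone _ (by omega) hy, ?_⟩
      have h := pow_card_eq_one' (G := ↥((⊤ : Subgroup S).lowerCentralSeries (2 * k - 1)))
        (x := ⟨y, hy⟩)
      rw [hlast] at h
      exact congrArg Subtype.val h
    have := Subgroup.card_le_of_le hle
    rw [hlast, hKm, hm0, pow_zero] at this
    omega
  have hKB : K ≤ B := by
    rw [hKeq]
    exact Subgroup.lowerCentralSeries_antitone _ (by omega)
  -- the image
  set J := powSub B p hBc with hJdef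
  have hJn : J.Normal := powSub_normal B p hBc
  have hJB : J ≤ B := by
    rintro _ ⟨c, hc, rfl⟩; exact B.pow_mem hc p
  have hJ1 : J ≤ (⊤ : Subgroup S).lowerCentralSeries 1 := (hJB.trans hBA).trans hA1
  have hkerB : Nat.card (kerSub B p hBc) = p ^ m := by
    rw [← hKm]
    apply Nat.card_congr
    refine ⟨fun x => ⟨(x : S), hBA x.2.1, x.2.2⟩, fun x => ⟨(x : S), hKB x.2, x.2.2⟩, ?_, ?_⟩
    · intro x; rfl
    · intro x; rfl
  have hJcard : Nat.card J = p ^ (k - m) := by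
    have h := card_powSub B p hBc
    rw [hcB, hkerB] at h
    have h2 : p ^ k = p ^ (k - m) * p ^ m := by rw [← pow_add]; congr 1; omega
    rw [h2] at h
    exact (Nat.eq_of_mul_eq_mul_right (pow_pos hpp.pos m) h).symm
  have hJeq := eq_lcsT_of_card n hS hcl hn J hJ1 (k - m) hJcard
  have hidx : n - 1 - (k - m) = k + m := by omega
  rw [hidx] at hJeq
  refine ⟨m, hm1, hmk, ?_, ?_⟩
  · intro c hc
    rw [← hJeq]
    exact ⟨c, hc, rfl⟩
  · intro y hy hyB hyp
    rw [← hJeq] at hyp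
    obtain ⟨c, hc, hcy⟩ := hyp
    apply hyB
    have hz : y * c⁻¹ ∈ K := by
      refine ⟨A.mul_mem hy (A.inv_mem (hBA hc)), ?_⟩
      have hcomm : Commute y c⁻¹ := hAc y hy c⁻¹ (A.inv_mem (hBA hc))
      rw [hcomm.mul_pow, inv_pow, hcy, mul_inv_cancel]
    have : y = y * c⁻¹ * c := by group
    rw [this]
    exact B.mul_mem (hKB hz) hc

end Cfsg.Agent.MXC
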