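import Mathlib
import Cfsg.Prelude
import Cfsg.Agent.Lib.MXC.Defs
import Cfsg.Agent.Lib.MXC.BASIC

/-!
# S3806 / MXC piece TP: an element outside the two-step centralizers `Kc S 1, …, Kc S e` has `t^p ∈ Γ_{e+1}`.
-/

set_option autoImplicit false

namespace Cfsg.Agent.MXC

open scoped commutatorElement

/-- `{u | ⁅u, t⁆ ∈ N}` for a normal subgroup `N` -/
def tpCent {S : Type*} [Group S] (N : Subgroup S) [hN : N.Normal] (t : S) : Subgroup S where
  carrier := {u | ⁅u, t⁆ ∈ N}
  one_mem' := by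
    show ⁅(1 : S), t⁆ ∈ N
    rw [commutatorElement_def]; simp
  mul_mem' := by
    intro u v hu hv
    show ⁅u * v, t⁆ ∈ N
    have h1 : ⁅u * v, t⁆ = u * ⁅v, t⁆ * u⁻¹ * ⁅u, t⁆ := by
      simp only [commutatorElement_def]; group
    rw [h1]
    exact N.mul_mem (hN.conj_mem _ hv u) hu
  inv_mem' := by
    intro u hu
    show ⁅u⁻¹, t⁆ ∈ N
    have h1 : ⁅u⁻¹, t⁆ = u⁻¹ * (⁅u, t⁆)⁻¹ * u⁻¹⁻¹ := by
      simp only [commutatorElement_def]; group
    rw [h1]
    exact hN.conj_mem _ (N.inv_mem hu) u⁻¹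

theorem mem_tpCent {S : Type*} [Group S] (N : Subgroup S) [N.Normal] (t u : S) :
    u ∈ tpCent N t ↔ ⁅u, t⁆ ∈ N := Iff.rfl

variable {S : Type*} [Group S] [Finite S] {p : ℕ} [hp : Fact p.Prime] (n : ℕ)
  (hS : Nat.card S = p ^ n) (hcl : Group.nilpotencyClass S = n - 1) (hn : 3 ≤ n)

include hS hcl hn in
theorem pow_mem_of_not_mem_Kc (t : S) (e : ℕ) (he : e ≤ n - 2)
    (ht : ∀ i, 1 ≤ i → i ≤ e → t ∉ Kc S i) :
    t ^ p ∈ (⊤ : Subgroup S).lowerCentralSeries (e + 1) := by
  induction e with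
  | zero => exact pow_mem_lcsT_one n hS hcl hn t
  | succ e ih =>
    have ih' := ih (by omega) (fun i h1 h2 => ht i h1 (by omega))
    by_contra hcon
    set i := e + 1 with hi
    have hN : ((⊤ : Subgroup S).lowerCentralSeries (i + 2)).Normal := inferInstance
    set C := (⊤ : Subgroup S).lowerCentralSeries i ⊓
      tpCent ((⊤ : Subgroup S).lowerCentralSeries (i + 2)) t with hC
    have h1 : (⊤ : Subgroup S).lowerCentralSeries (i + 1) ≤ C := by
      apply le_inf
      · exact Subgroup.lowerCentralSeries_antitone _ (by omega)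
      · intro u hu
        rw [mem_tpCent]
        show ⁅u, t⁆ ∈ (⊤ : Subgroup S).lowerCentralSeries (i + 1 + 1)
        rw [Subgroup.lowerCentralSeries_succ]
        exact Subgroup.commutator_mem_commutator hu (Subgroup.mem_top t)
    have h2 : C ≤ (⊤ : Subgroup S).lowerCentralSeries i := inf_le_left
    have htC : t ^ p ∈ C := by
      have hcomm : ⁅t ^ p, t⁆ = 1 := by
        rw [commutatorElement_eq_one_iff_commute]
        exact (Commute.refl t).pow_left p
      have hmem : t ^ p ∈ tpCent ((⊤ : Subgroup S).lowerCentralSeries (i + 2)) t := by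
        rw [mem_tpCent, hcomm]; exact Subgroup.one_mem _
      exact Subgroup.mem_inf.2 ⟨ih', hmem⟩
    have h3 : C ≠ (⊤ : Subgroup S).lowerCentralSeries (i + 1) := by
      intro h
      apply hcon
      rw [h] at htC
      exact htC
    have hEq := eq_of_between n hS hcl hn i (by omega) (by omega) C h1 h2 h3
    apply ht i (by omega) (by omega)
    rw [mem_Kc]
    intro u hu
    have hu' : u ∈ C := by rw [hEq]; exact hu
    exact (mem_tpCent _ t u).1 (Subgroup.mem_inf.1 hu').2

end Cfsg.Agent.MXC
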