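import Mathlib
import Cfsg.Prelude
import Cfsg.Agent.Lib.MXC.Defs
import Cfsg.Agent.Lib.MXC.TP
import Cfsg.Agent.S4209
import Cfsg.Agent.S0643

/-!
# S3806 / MXC piece REG: the `p`-th power formula in the regular subgroup `M = Γ_{k-1} ⊔ ⟨t⟩`.
-/

set_option autoImplicit false

namespace Cfsg.Agent.MXC

open scoped commutatorElement

/-- commutators with an element of `Γ_j` lie in `Γ_{j+1}` -/
theorem reg_comm_mem {G : Type*} [Group G] (j : ℕ) (x u : G)
    (hx : x ∈ (⊤ : Subgroup G).lowerCentralSeries j) :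
    ⁅x, u⁆ ∈ (⊤ : Subgroup G).lowerCentralSeries (j + 1) ∧
      ⁅u, x⁆ ∈ (⊤ : Subgroup G).lowerCentralSeries (j + 1) := by
  have h1 : ⁅x, u⁆ ∈ (⊤ : Subgroup G).lowerCentralSeries (j + 1) := by
    rw [Subgroup.lowerCentralSeries_succ]
    exact Subgroup.commutator_mem_commutator hx (Subgroup.mem_top u)
  refine ⟨h1, ?_⟩
  have : ⁅u, x⁆ = (⁅x, u⁆)⁻¹ := (commutatorElement_inv x u).symm
  rw [this]
  exact Subgroup.inv_mem _ h1

/-- `⁅M, M⁆ ≤ Γ_{j+1}` for `M = Γ_j ⊔ ⟨t⟩` -/
theorem reg_comm_le {G : Type*} [Group G] (j : ℕ) (t : G) :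
    ⁅(⊤ : Subgroup G).lowerCentralSeries j ⊔ Subgroup.zpowers t,
      (⊤ : Subgroup G).lowerCentralSeries j ⊔ Subgroup.zpowers t⁆ ≤
      (⊤ : Subgroup G).lowerCentralSeries (j + 1) := by
  set N := (⊤ : Subgroup G).lowerCentralSeries (j + 1) with hN
  have hNn : N.Normal := inferInstance
  set M := (⊤ : Subgroup G).lowerCentralSeries j ⊔ Subgroup.zpowers t with hM
  -- `M ≤ tpCent N t`
  have h1 : M ≤ tpCent N t := by
    apply sup_le
    · intro x hx
      rw [mem_tpCent]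
      exact (reg_comm_mem j x t hx).1
    · rw [Subgroup.zpowers_le, mem_tpCent]
      have : ⁅t, t⁆ = 1 := by rw [commutatorElement_eq_one_iff_commute]
      rw [this]; exact N.one_mem
  have h2 : ∀ u ∈ M, M ≤ tpCent N u := by
    intro u hu
    apply sup_le
    · intro x hx
      rw [mem_tpCent]
      exact (reg_comm_mem j x u hx).1
    · rw [Subgroup.zpowers_le, mem_tpCent]
      have h3 : ⁅u, t⁆ ∈ N := (mem_tpCent N t u).1 (h1 hu)
      have : ⁅t, u⁆ = (⁅u, t⁆)⁻¹ := (commutatorElement_inv u t).symm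
      rw [this]
      exact N.inv_mem h3
  rw [Subgroup.commutator_le]
  intro a ha b hb
  exact (mem_tpCent N b a).1 (h2 b hb ha)

theorem reg_lcs_le {G : Type*} [Group G] (j : ℕ) (t : G) (i : ℕ) :
    ((⊤ : Subgroup G).lowerCentralSeries j ⊔ Subgroup.zpowers t).lowerCentralSeries (i + 1) ≤
      (⊤ : Subgroup G).lowerCentralSeries (j + i + 1) := by
  induction i with
  | zero =>
    rw [Subgroup.lowerCentralSeries_succ, Subgroup.lowerCentralSeries_zero]
    exact reg_comm_le j t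
  | succ i ih =>
    rw [Subgroup.lowerCentralSeries_succ]
    have e : j + (i + 1) + 1 = (j + i + 1) + 1 := by omega
    rw [e, Subgroup.lowerCentralSeries_succ (S := (⊤ : Subgroup G))]
    exact Subgroup.commutator_mono ih le_top

theorem pow_mul_regular {G : Type*} [Group G] [Finite G] {p : ℕ} [Fact p.Prime] (hG : IsPGroup p G)
    (k : ℕ) (hk : 1 ≤ k) (hkp : k + 2 ≤ p)
    (hcl : (⊤ : Subgroup G).lowerCentralSeries (2 * k) = ⊥) (t y : G)
    (hy : y ∈ (⊤ : Subgroup G).lowerCentralSeries (k - 1)) :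
    ∃ c ∈ (⊤ : Subgroup G).lowerCentralSeries k, (t * y) ^ p = t ^ p * y ^ p * c ^ p := by
  set M := (⊤ : Subgroup G).lowerCentralSeries (k - 1) ⊔ Subgroup.zpowers t with hM
  have hMp : IsPGroup p ↥M := hG.to_subgroup M
  -- class of `M`
  have h1 : M.lowerCentralSeries (p - 1) = ⊥ := by
    rw [eq_bot_iff]
    have h2 : M.lowerCentralSeries (p - 1) ≤ M.lowerCentralSeries (k + 1) :=
      Subgroup.lowerCentralSeries_antitone _ (by omega)
    have h3 := reg_lcs_le (G := G) (k - 1) t k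
    have e : k - 1 + k + 1 = 2 * k := by omega
    rw [e, hcl] at h3
    exact h2.trans h3
  have h2 : (⊤ : Subgroup ↥M).lowerCentralSeries (p - 1) = ⊥ := by
    have := Subgroup.top_subtype_lowerCentralSeries M (p - 1)
    rw [h1] at this
    exact (Subgroup.map_eq_bot_iff_of_injective _ M.subtype_injective).1 this
  have hreg : Cfsg.IsRegularPGroup p ↥M := Cfsg.Agent.S4209.result hMp h2
  have htM : t ∈ M := Subgroup.mem_sup_right (Subgroup.mem_zpowers t)
  have hyM : y ∈ M := Subgroup.mem_sup_left hy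
  obtain ⟨c, hc, hceq⟩ := (Cfsg.Agent.S0643.result hMp).1 hreg ⟨t, htM⟩ ⟨y, hyM⟩
  refine ⟨(c : G), ?_, ?_⟩
  · -- `c ∈ ⁅⊤, ⊤⁆` in `M`, which maps into `⁅M, M⁆ ≤ Γ_k`
    have hc1 : c ∈ (⊤ : Subgroup ↥M).lowerCentralSeries 1 := by
      rw [Subgroup.lowerCentralSeries_succ, Subgroup.lowerCentralSeries_zero]
      exact Subgroup.commutator_mono le_top le_top hc
    have hc2 : (c : G) ∈ ((⊤ : Subgroup ↥M).lowerCentralSeries 1).map M.subtype :=
      Subgroup.mem_map_of_mem M.subtype hc1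
    rw [Subgroup.top_subtype_lowerCentralSeries] at hc2
    have h3 := reg_lcs_le (G := G) (k - 1) t 0
    have e : k - 1 + 0 + 1 = k := by omega
    rw [e] at h3
    exact h3 hc2
  · have := congrArg Subtype.val hceq
    simpa using this

end Cfsg.Agent.MXC
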