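import Mathlib
import Cfsg.Prelude
import Cfsg.Agent.Lib.MXC.Defs
import Cfsg.Agent.Lib.MXC.BASIC
import Cfsg.Agent.Lib.MXC.AB
import Cfsg.Agent.Lib.MXC.KER
import Cfsg.Agent.Lib.MXC.TP
import Cfsg.Agent.Lib.MXC.KC
import Cfsg.Agent.Lib.MXC.AVOID
import Cfsg.Agent.Lib.MXC.REG
import Cfsg.Agent.Lib.Helper13.MANNITER

/-!
# S3806 / MXC piece ML: in a group of maximal class of order `p^(2k+1)`, `2 ≤ k ≤ p-2`, `Γ_{k-1}` has exponent `p`.
Suppose `y0 ∈ Γ_{k-1}`, `y0^p ≠ 1`; take `e` from `ker_structure`. The subgroups `Kc S i` (`1 ≤ i ≤ e`) and `Kc S (k-2)` are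
proper (`Kc_ne_top`, `card_lcsT`: `|Γ_{i+1}| ≠ |Γ_{i+2}|` for `i+2 ≤ 2k`) and there are at most `e+1 ≤ k+1 ≤ p` of them, so
`exists_avoid` (with the Finset `(Finset.Icc 1 e).image (Kc S) ∪ {Kc S (k-2)}`) gives `t` outside all.
`pow_mem_of_not_mem_Kc`: `t^p ∈ Γ_{e+1}`. `conj_of_not_mem_Kc (k-2)`: `g ∈ Γ_{k-2}`, `y ∈ Γ_{k-1} ∖ Γ_k`, `g t g⁻¹ = t y`.
So `(t y)^p = g t^p g⁻¹ = t^p * ⁅t^(-p), g⁆` hmm: `g t^p g⁻¹ = t^p * (t^p)⁻¹ * g * t^p * g⁻¹ = t^p * ⁅(t^p)⁻¹, g⁆` and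
`⁅(t^p)⁻¹, g⁆ ∈ ⁅Γ_{e+1}, Γ_{k-2}⁆ ≤ Γ_{k+e}` (`lcs_comm_lcs_le (e+1) (k-2)`, `e+1+(k-2)+1 = k+e`).
`pow_mul_regular`: `(t y)^p = t^p y^p c^p`, `c ∈ Γ_k`, `c^p ∈ Γ_{k+e}` (first claim of KER). Hence
`y^p = ⁅(t^p)⁻¹, g⁆ * (c^p)⁻¹ ∈ Γ_{k+e}`, against the second claim of KER.
-/

set_option autoImplicit false

namespace Cfsg.Agent.MXC

open scoped commutatorElement

variable {S : Type*} [Group S] [Finite S] {p : ℕ} [hp : Fact p.Prime] (n : ℕ)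
  (hS : Nat.card S = p ^ n) (hcl : Group.nilpotencyClass S = n - 1) (hn : 3 ≤ n)

include hS hcl hn in
theorem exp_lcsT (k : ℕ) (hk2 : 2 ≤ k) (hkp : k + 2 ≤ p) (hnk : n = 2 * k + 1) (y : S)
    (hy : y ∈ (⊤ : Subgroup S).lowerCentralSeries (k - 1)) : y ^ p = 1 := by
  classical
  by_contra hy0p
  have hpp : p.Prime := hp.out
  have hp1 : 1 < p := hpp.one_lt
  have hPG : IsPGroup p S := IsPGroup.of_card hS
  obtain ⟨e, he1, hek, hc, hny⟩ := ker_structure n hS hcl hn k hk2 hnk y hy hy0p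
  -- the family of two-step centralizers to avoid
  set 𝒦 : Finset (Subgroup S) := (Finset.Icc 1 e).image (Kc S) ∪ {Kc S (k - 2)} with h𝒦
  have hcard : 𝒦.card ≤ p := by
    calc 𝒦.card ≤ ((Finset.Icc 1 e).image (Kc S)).card + ({Kc S (k - 2)} : Finset (Subgroup S)).card :=
          Finset.card_union_le _ _
      _ ≤ (Finset.Icc 1 e).card + 1 := by
          apply Nat.add_le_add Finset.card_image_le
          rw [Finset.card_singleton]
      _ = e + 1 := by rw [Nat.card_Icc]; omega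
      _ ≤ p := by omega
  have hne : ∀ j, 1 ≤ j → j + 1 ≤ n - 1 →
      (⊤ : Subgroup S).lowerCentralSeries j ≠ (⊤ : Subgroup S).lowerCentralSeries (j + 1) := by
    intro j hj1 hj2 heq
    have h1 := card_lcsT n hS hcl hn j hj1 (by omega)
    have h2 := card_lcsT n hS hcl hn (j + 1) (by omega) hj2
    rw [heq, h2] at h1
    have := Nat.pow_right_injective hp1 h1
    omega
  have hprop : ∀ K ∈ 𝒦, K ≠ ⊤ := by
    intro K hK
    rw [h𝒦, Finset.mem_union, Finset.mem_image, Finset.mem_singleton] at hK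
    rcases hK with ⟨i, hi, rfl⟩ | rfl
    · rw [Finset.mem_Icc] at hi
      exact Kc_ne_top i (hne (i + 1) (by omega) (by omega))
    · apply Kc_ne_top (k - 2)
      have e1 : k - 2 + 1 = k - 1 := by omega
      have e2 : k - 2 + 2 = k - 1 + 1 := by omega
      rw [e1, e2]
      exact hne (k - 1) (by omega) (by omega)
  obtain ⟨t, ht⟩ := exists_avoid hPG 𝒦 hcard hprop
  have ht1 : ∀ i, 1 ≤ i → i ≤ e → t ∉ Kc S i := by
    intro i hi1 hi2
    apply ht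
    rw [h𝒦, Finset.mem_union]
    left
    exact Finset.mem_image_of_mem _ (Finset.mem_Icc.2 ⟨hi1, hi2⟩)
  have ht2 : t ∉ Kc S (k - 2) := by
    apply ht
    rw [h𝒦, Finset.mem_union]
    right
    exact Finset.mem_singleton_self _
  have htp : t ^ p ∈ (⊤ : Subgroup S).lowerCentralSeries (e + 1) :=
    pow_mem_of_not_mem_Kc n hS hcl hn t e (by omega) ht1
  obtain ⟨g, hg, y', hy', hy'n, hconj⟩ := conj_of_not_mem_Kc (k - 2) t ht2
  have e1 : k - 2 + 1 = k - 1 := by omega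
  have e2 : k - 2 + 2 = k := by omega
  rw [e1] at hy'
  rw [e2] at hy'n
  -- `(t y')^p = g t^p g⁻¹`
  have h1 : (t * y') ^ p = g * t ^ p * g⁻¹ := by
    rw [← hconj, conj_pow]
  have h2 : g * t ^ p * g⁻¹ = t ^ p * ⁅(t ^ p)⁻¹, g⁆ := by
    rw [commutatorElement_def]
    group
  have h3 : ⁅(t ^ p)⁻¹, g⁆ ∈ (⊤ : Subgroup S).lowerCentralSeries (k + e) := by
    have h := Cfsg.Agent.Helper10.Mann.lcs_comm_lcs_le (G := S) (e + 1) (k - 2)
    have e3 : e + 1 + (k - 2) + 1 = k + e := by omega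
    rw [e3] at h
    exact h (Subgroup.commutator_mem_commutator (inv_mem htp) hg)
  have hbot : (⊤ : Subgroup S).lowerCentralSeries (2 * k) = ⊥ := by
    have := Cfsg.Agent.S0662.lcs_eq_bot n hS hcl
    have e4 : n - 1 = 2 * k := by omega
    rwa [e4] at this
  obtain ⟨c, hcm, hcp⟩ := pow_mul_regular hPG k (by omega) hkp hbot t y' hy'
  have hcpow := hc c hcm
  -- `y'^p = ⁅(t^p)⁻¹, g⁆ * (c^p)⁻¹`
  have h4 : y' ^ p = ⁅(t ^ p)⁻¹, g⁆ * (c ^ p)⁻¹ := by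
    have h5 : t ^ p * y' ^ p * c ^ p = t ^ p * ⁅(t ^ p)⁻¹, g⁆ := by
      rw [← hcp, h1, h2]
    have h6 : y' ^ p * c ^ p = ⁅(t ^ p)⁻¹, g⁆ := by
      rw [mul_assoc] at h5
      exact mul_left_cancel h5
    rw [← h6]
    group
  apply hny y' hy' hy'n
  rw [h4]
  exact mul_mem h3 (inv_mem hcpow)

end Cfsg.Agent.MXC
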