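import Mathlib
import Cfsg.Prelude
import Cfsg.Agent.Lib.MXC.Defs
import Cfsg.Agent.Lib.MXC.BASIC

/-!
# S3806 / MXC piece QUOT: the quotient of a group of maximal class by `Γ_j` (`1 ≤ j ≤ n-1`) has order `p^(j+1)` and class `j`.
Order: `|S| / |Γ_j| = p^n / p^(n-1-j)` (`card_lcsT`). Class: `Subgroup.map_lowerCentralSeries` with `QuotientGroup.mk'` (surjective, so
`(⊤).map = ⊤`): the `i`-th term of the quotient is the image of `Γ_i`; the image of `Γ_j` is `⊥`, the image of `Γ_{j-1}` is not
(`Γ_{j-1} ≰ Γ_j` by `card_lcsT`, or `Γ_0 = ⊤` when `j = 1`); conclude with `lowerCentralSeries_eq_bot_iff_nilpotencyClass_le`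
(the quotient of a finite `p`-group is nilpotent: `IsPGroup.isNilpotent`).
-/

set_option autoImplicit false

namespace Cfsg.Agent.MXC

open scoped commutatorElement

variable {S : Type*} [Group S] [Finite S] {p : ℕ} [hp : Fact p.Prime] (n : ℕ)
  (hS : Nat.card S = p ^ n) (hcl : Group.nilpotencyClass S = n - 1) (hn : 3 ≤ n)

include hS hcl hn in
theorem quot_card (j : ℕ) (hj1 : 1 ≤ j) (hj : j ≤ n - 1) :
    Nat.card (S ⧸ (⊤ : Subgroup S).lowerCentralSeries j) = p ^ (j + 1) := by
  have h1 := card_lcsT n hS hcl hn j hj1 hj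
  have h2 := Subgroup.card_eq_card_quotient_mul_card_subgroup
    ((⊤ : Subgroup S).lowerCentralSeries j)
  rw [hS, h1] at h2
  have hp0 : 0 < p ^ (n - 1 - j) := pow_pos hp.out.pos _
  have h3 : p ^ n = p ^ (j + 1) * p ^ (n - 1 - j) := by
    rw [← pow_add]; congr 1; omega
  rw [h3] at h2
  exact (Nat.eq_of_mul_eq_mul_right hp0 h2).symm

omit [Finite S] in
/-- the lower central series of the quotient is the image of the lower central series -/
theorem quot_lcs_aux (N : Subgroup S) [N.Normal] (i : ℕ) :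
    (⊤ : Subgroup (S ⧸ N)).lowerCentralSeries i =
      ((⊤ : Subgroup S).lowerCentralSeries i).map (QuotientGroup.mk' N) := by
  rw [Subgroup.map_lowerCentralSeries,
    Subgroup.map_top_of_surjective _ (QuotientGroup.mk'_surjective N)]

include hS hcl hn in
theorem quot_class (j : ℕ) (hj1 : 1 ≤ j) (hj : j ≤ n - 1) :
    Group.nilpotencyClass (S ⧸ (⊤ : Subgroup S).lowerCentralSeries j) = j := by
  have hcard := quot_card n hS hcl hn j hj1 hj
  have hpg : IsPGroup p (S ⧸ (⊤ : Subgroup S).lowerCentralSeries j) := IsPGroup.of_card hcard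
  have hnil : Group.IsNilpotent (S ⧸ (⊤ : Subgroup S).lowerCentralSeries j) := hpg.isNilpotent
  apply le_antisymm
  · rw [← Subgroup.lowerCentralSeries_eq_bot_iff_nilpotencyClass_le, quot_lcs_aux,
      QuotientGroup.map_mk'_self]
  · by_contra hlt
    have hle : Group.nilpotencyClass (S ⧸ (⊤ : Subgroup S).lowerCentralSeries j) ≤ j - 1 := by
      omega
    rw [← Subgroup.lowerCentralSeries_eq_bot_iff_nilpotencyClass_le, quot_lcs_aux,
      ← le_bot_iff, Subgroup.map_le_iff_le_comap, MonoidHom.comap_bot, QuotientGroup.ker_mk'] at hle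
    have hc := Subgroup.card_le_of_le hle
    have hcj := card_lcsT n hS hcl hn j hj1 hj
    rw [hcj] at hc
    rcases Nat.lt_or_ge 1 j with h2 | h2
    · have hcj' := card_lcsT n hS hcl hn (j - 1) (by omega) (by omega)
      rw [hcj'] at hc
      have := (Nat.pow_le_pow_iff_right hp.out.one_lt).mp hc
      omega
    · have hj0 : j - 1 = 0 := by omega
      rw [hj0, Subgroup.lowerCentralSeries_zero, Subgroup.card_top, hS] at hc
      have := (Nat.pow_le_pow_iff_right hp.out.one_lt).mp hc
      omega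

end Cfsg.Agent.MXC
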