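import Mathlib
import Cfsg.Prelude
import Cfsg.Agent.Lib.MXC.Defs

/-!
# S3806 / MXC piece RANK: an abelian section of exponent `p` has order at most `p ^ r`.
General-`p` clone of `Cfsg.Agent.Helper22.SecRank.card_le_of_sq` (Lib/Helper22/SecRank.lean).
-/

set_option autoImplicit false

namespace Cfsg.Agent.MXC

open scoped commutatorElement

theorem rank_le {S : Type*} [Group S] [Finite S] {p r : ℕ} (hr : Cfsg.SectionalPRankLE p r S)
    (K M : Subgroup S) (hMK : M ≤ K) (hnorm : K ≤ Subgroup.normalizer (M : Set S))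
    (hcomm : ∀ a ∈ K, ∀ b ∈ K, ⁅a, b⁆ ∈ M) (hpow : ∀ a ∈ K, a ^ p ∈ M) :
    Nat.card K ≤ p ^ r * Nat.card M := by
  have hn : (M.subgroupOf K).Normal :=
    (Subgroup.normal_subgroupOf_iff_le_normalizer hMK).mpr hnorm
  have hq : ∀ q : ↥K ⧸ M.subgroupOf K, q ^ p = 1 := by
    intro q
    obtain ⟨k, rfl⟩ := QuotientGroup.mk_surjective q
    rw [← QuotientGroup.mk_pow, QuotientGroup.eq_one_iff, Subgroup.mem_subgroupOf]
    exact hpow k k.2
  have hc : ∀ a b : ↥K ⧸ M.subgroupOf K, a * b = b * a := by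
    intro a b
    obtain ⟨x, rfl⟩ := QuotientGroup.mk_surjective a
    obtain ⟨y, rfl⟩ := QuotientGroup.mk_surjective b
    rw [← QuotientGroup.mk_mul, ← QuotientGroup.mk_mul, QuotientGroup.eq,
      Subgroup.mem_subgroupOf]
    have h1 : (((x * y)⁻¹ * (y * x) : ↥K) : S) = ⁅(y : S)⁻¹, (x : S)⁻¹⁆ := by
      simp only [commutatorElement_def, Subgroup.coe_mul, Subgroup.coe_inv, inv_inv]
      group
    rw [h1]
    exact hcomm _ (K.inv_mem y.2) _ (K.inv_mem x.2)
  have h1 := hr K (M.subgroupOf K) ⊤ ⟨⟨fun a b => Subtype.ext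
    (hc (a : ↥K ⧸ M.subgroupOf K) (b : ↥K ⧸ M.subgroupOf K))⟩⟩ (fun a _ => hq a)
  rw [Subgroup.card_top] at h1
  have h2 := Subgroup.card_eq_card_quotient_mul_card_subgroup (M.subgroupOf K)
  have h3 : Nat.card (M.subgroupOf K) = Nat.card M :=
    Nat.card_congr (Subgroup.subgroupOfEquivOfLe hMK).toEquiv
  rw [h2, h3]
  exact Nat.mul_le_mul_right _ h1

end Cfsg.Agent.MXC
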