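import Mathlib
import Cfsg.Prelude
import Cfsg.Agent.Lib.MXC.Defs
import Cfsg.Agent.Lib.MXC.BASIC
import Cfsg.Agent.Lib.MXC.AB
import Cfsg.Agent.Lib.MXC.ML
import Cfsg.Agent.Lib.MXC.QUOT

/-!
# S3806 / MXC piece SEC: in a group of maximal class of order `p^n`, `n ≥ 2k+1`, `2 ≤ k ≤ p-2`, the section `Γ_{k-1} / Γ_{2k}` is
abelian of exponent `p`. Apply `lcsT_comm` and `exp_lcsT` to `S̄ = S ⧸ Γ_{2k}` (order `p^(2k+1)`, class `2k` by `quot_card`,
`quot_class` with `j = 2k`; note `3 ≤ 2k+1`): for `a ∈ Γ_{k-1}(S)` the image `ā` lies in `Γ_{k-1}(S̄)`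
(`Subgroup.map_lowerCentralSeries`), so `ā^p = 1`, i.e. `a^p ∈ Γ_{2k}`; likewise `ā b̄ = b̄ ā` gives `⁅a,b⁆ ∈ Γ_{2k}`.
-/

set_option autoImplicit false

namespace Cfsg.Agent.MXC

open scoped commutatorElement

variable {S : Type*} [Group S] [Finite S] {p : ℕ} [hp : Fact p.Prime] (n : ℕ)
  (hS : Nat.card S = p ^ n) (hcl : Group.nilpotencyClass S = n - 1) (hn : 3 ≤ n)

include hS hcl hn in
theorem section_exp (k : ℕ) (hk2 : 2 ≤ k) (hkp : k + 2 ≤ p) (hnk : 2 * k + 1 ≤ n) :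
    (∀ a ∈ (⊤ : Subgroup S).lowerCentralSeries (k - 1),
      ∀ b ∈ (⊤ : Subgroup S).lowerCentralSeries (k - 1),
        ⁅a, b⁆ ∈ (⊤ : Subgroup S).lowerCentralSeries (2 * k)) ∧
    (∀ a ∈ (⊤ : Subgroup S).lowerCentralSeries (k - 1),
      a ^ p ∈ (⊤ : Subgroup S).lowerCentralSeries (2 * k)) := by
  set N := (⊤ : Subgroup S).lowerCentralSeries (2 * k) with hN
  have hNn : N.Normal := inferInstance
  have hQc : Nat.card (S ⧸ N) = p ^ (2 * k + 1) :=
    quot_card n hS hcl hn (2 * k) (by omega) (by omega)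
  have hQcl : Group.nilpotencyClass (S ⧸ N) = 2 * k + 1 - 1 := by
    rw [quot_class n hS hcl hn (2 * k) (by omega) (by omega)]
    omega
  have hQn : 3 ≤ 2 * k + 1 := by omega
  -- images of `Γ_{k-1}` lie in `Γ_{k-1}` of the quotient
  have hmap : ∀ a ∈ (⊤ : Subgroup S).lowerCentralSeries (k - 1),
      (QuotientGroup.mk' N a) ∈ (⊤ : Subgroup (S ⧸ N)).lowerCentralSeries (k - 1) := by
    intro a ha
    have h := Subgroup.map_lowerCentralSeries (S := (⊤ : Subgroup S)) (QuotientGroup.mk' N) (k - 1)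
    have htop : (⊤ : Subgroup S).map (QuotientGroup.mk' N) = ⊤ := by
      rw [← MonoidHom.range_eq_map]
      exact MonoidHom.range_eq_top.2 (QuotientGroup.mk'_surjective N)
    rw [htop] at h
    rw [← h]
    exact Subgroup.mem_map_of_mem _ ha
  refine ⟨?_, ?_⟩
  · intro a ha b hb
    have h := lcsT_comm (2 * k + 1) hQc hQcl hQn k hk2 rfl _ _ (hmap a ha) (hmap b hb)
    have h2 : (QuotientGroup.mk' N) ⁅a, b⁆ = 1 := by
      rw [commutatorElement_def, map_mul, map_mul, map_mul, map_inv, map_inv, h]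
      group
    exact (QuotientGroup.eq_one_iff _).1 h2
  · intro a ha
    have h := exp_lcsT (2 * k + 1) hQc hQcl hQn k hk2 hkp rfl _ (hmap a ha)
    rw [← map_pow] at h
    exact (QuotientGroup.eq_one_iff _).1 h

end Cfsg.Agent.MXC
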